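import Mathlib

/-!
# Algebra for the uniqueness of primary components (helper5)
-/

set_option autoImplicit false

namespace Groth.Agent.Lib.Helper5.PrimDec

/-- if the annihilator of `s` is contained in the prime `𝔭`, some multiple of `s` has a
prime annihilator contained in `𝔭` -/
theorem exists_smul_ann_prime_le {A N : Type*} [CommRing A] [IsNoetherianRing A]
    [AddCommGroup N] [Module A N] (s : N) (𝔭 : Ideal A) [𝔭.IsPrime]
    (h𝔭 : ∀ r : A, r • s = 0 → r ∈ 𝔭) :
    ∃ (b : A) (𝔮 : Ideal A), 𝔮.IsPrime ∧ 𝔮 ≤ 𝔭 ∧ ∀ r : A, r ∈ 𝔮 ↔ r • (b • s) = 0 := by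
  have hI : Module.annihilator A (Submodule.span A {s}) ≤ 𝔭 := by
    intro r hr
    apply h𝔭
    have h1 := Module.mem_annihilator.1 hr ⟨s, Submodule.mem_span_singleton_self s⟩
    exact congrArg Subtype.val h1
  obtain ⟨𝔮, h𝔮, hle⟩ := Ideal.exists_minimalPrimes_le hI
  haveI : Module.Finite A (Submodule.span A {s}) :=
    Module.Finite.of_fg (Submodule.fg_span_singleton s)
  have hass := Module.associatedPrimes.minimalPrimes_annihilator_subset_associatedPrimes A
    (Submodule.span A {s}) h𝔮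
  obtain ⟨hp, ⟨y, hy⟩, hy'⟩ := (isAssociatedPrime_iff).1 hass
  obtain ⟨b, rfl⟩ := Submodule.mem_span_singleton.1 hy
  refine ⟨b, 𝔮, hp, hle, fun r => ?_⟩
  rw [hy', Submodule.mem_colon_singleton, Submodule.mem_bot]
  constructor
  · intro h
    exact congrArg Subtype.val h
  · intro h
    exact Subtype.ext h

end Groth.Agent.Lib.Helper5.PrimDec
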