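import Mathlib
import Groth.Agent.Lib.Helper5.PrimDec.Sub
import Groth.Agent.Lib.Helper5.PrimDec.Alg3
import Groth.Agent.Lib.Helper1.SubSh
import Groth.Agent.Lib.Helper1.TwistSec

/-!
# Uniqueness of the primary components at non-embedded points (helper5)
-/

set_option autoImplicit false
set_option backward.isDefEq.respectTransparency.types false
universe u
open CategoryTheory CategoryTheory.Limits AlgebraicGeometry TopologicalSpace IsLocalRing Opposite
open Groth.Agent.Helper1.QcCech Groth.Agent.Helper1.SubSh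

namespace Groth.Agent.Lib.Helper5.PrimDec

section common
variable {X : Scheme.{u}} {M : X.Modules} {ι : Type*} (G : ι → X.Modules) (q : ∀ i, M ⟶ G i)

theorem app_res' {E F : X.Modules} (φ : E ⟶ F) {W U : X.Opens} (h : U ≤ W) (a : Γ(E, W)) :
    res F h (φ.app W a) = φ.app U (res E h a) := by
  have := φ.mapPresheaf.naturality (homOfLE h).op
  exact (ConcreteCategory.congr_hom this a).symm

/-- the common kernel of a family of morphisms, as a subsheaf -/
def commonKer : LocalSub M where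
  carrier U :=
    { carrier := {t | ∀ i, (q i).app U t = 0}
      add_mem' := fun {a b} ha hb i => by rw [map_add, ha i, hb i, add_zero]
      zero_mem' := fun i => map_zero _
      smul_mem' := fun r t ht i => by
        rw [Scheme.Modules.Hom.app_smul, ht i]
        exact smul_zero (A := Γ(G i, U)) r }
  res_mem := fun {U V} h {t} ht i => by
    rw [← app_res', ht i, map_zero]
  local_mem := fun {U} t ht i => by
    apply Groth.Agent.Helper1.TwistSec.eq_of_locally (G i)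
    intro x hx
    obtain ⟨W, hW, hxW, hm⟩ := ht x hx
    exact ⟨W, hW, hxW, by rw [app_res', hm i, map_zero]⟩

/-- a jointly monomorphic family is jointly injective on sections -/
theorem section_eq_zero_of_joint_mono
    (hm : ∀ (T : X.Modules) (a b : T ⟶ M), (∀ i, a ≫ q i = b ≫ q i) → a = b)
    (U : X.Opens) (s : Γ(M, U)) (hs : ∀ i, (q i).app U s = 0) : s = 0 := by
  have h0 : (commonKer G q).ι = 0 := by
    apply hm
    intro i
    rw [zero_comp]
    apply Scheme.Modules.hom_ext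
    intro V
    ext t
    exact (commonKer G q).ι_app_mem t i
  have h1 : (commonKer G q).ι.app U ((commonKer G q).mkSec s hs) = s := rfl
  rw [← h1, h0]
  rfl

end common

variable {X : Scheme.{u}} [IsLocallyNoetherian X]

/-- **the kernel of the component at a non-embedded point is contained in the kernel of every
morphism to a module whose only possible associated point is that point** -/
theorem kernel_comp_eq_zero (M : X.Modules) (hM : Coh.IsCoh M) (hne : AssSch.NoEmbedded M)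
    (G : AssSch.Ass M → X.Modules) (q : ∀ x, M ⟶ G x) (hG : ∀ x, (G x).IsQuasicoherent)
    (hA : ∀ x, AssSch.Ass (G x) = {x.1})
    (hm : ∀ (T : X.Modules) (a b : T ⟶ M), (∀ x, a ≫ q x = b ≫ q x) → a = b)
    (x : AssSch.Ass M) {H : X.Modules} [H.IsQuasicoherent] (p : M ⟶ H)
    (hH : AssSch.Ass H ⊆ {x.1}) : kernel.ι (q x) ≫ p = 0 := by
  haveI := hM.1
  apply Groth.Agent.Helper1.AffExt.hom_ext_affine
  intro V hV k
  haveI : IsNoetherianRing Γ(X, V) := IsLocallyNoetherian.component_noetherian ⟨V, hV⟩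
  by_contra hne0
  have hqs : (q x).app V ((kernel.ι (q x)).app V k) = 0 := by
    have h1 : (q x).app V ((kernel.ι (q x)).app V k) = (kernel.ι (q x) ≫ q x).app V k := rfl
    rw [h1, kernel.condition]
    rfl
  have hw : p.app V ((kernel.ι (q x)).app V k) ≠ 0 := hne0
  generalize (kernel.ι (q x)).app V k = s at hqs hw
  obtain ⟨a, 𝔮, h𝔮p, h𝔮⟩ := exists_smul_ann_prime (A := Γ(X, V)) (p.app V s) hw
  obtain ⟨z₀, hz₀⟩ : ∃ z₀ : V, hV.primeIdealOf z₀ = ⟨𝔮, h𝔮p⟩ :=
    ⟨⟨_, Groth.Agent.Lead.SD.fromSpec_mem hV _⟩, Groth.Agent.Lead.SD.primeIdealOf_fromSpec hV _⟩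
  have hz₀H : z₀.1 ∈ AssSch.Ass H := by
    refine (Groth.Agent.Lib.Helper4.CohSk1.ass_iff H hV z₀).2 ?_
    rw [hz₀]
    refine (isAssociatedPrime_iff).2 ⟨h𝔮p, a • p.app V s, ?_⟩
    ext r
    rw [Submodule.mem_colon_singleton, Submodule.mem_bot]
    exact h𝔮 r
  have hzx : z₀.1 = x.1 := hH hz₀H
  obtain ⟨b, 𝔮', h𝔮'p, hle, h𝔮'⟩ := exists_smul_ann_prime_le (A := Γ(X, V)) (a • s) 𝔮
    (fun r hr => (h𝔮 r).2 (by
      rw [← Scheme.Modules.Hom.app_smul, ← Scheme.Modules.Hom.app_smul, hr, map_zero]))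
  obtain ⟨z₁, hz₁⟩ : ∃ z₁ : V, hV.primeIdealOf z₁ = ⟨𝔮', h𝔮'p⟩ :=
    ⟨⟨_, Groth.Agent.Lead.SD.fromSpec_mem hV _⟩, Groth.Agent.Lead.SD.primeIdealOf_fromSpec hV _⟩
  have hz₁M : z₁.1 ∈ AssSch.Ass M := by
    refine (Groth.Agent.Lib.Helper4.CohSk1.ass_iff M hV z₁).2 ?_
    rw [hz₁]
    refine (isAssociatedPrime_iff).2 ⟨h𝔮'p, b • a • s, ?_⟩
    ext r
    rw [Submodule.mem_colon_singleton, Submodule.mem_bot]
    exact h𝔮' r
  have hspec : z₁.1 ⤳ z₀.1 := by
    refine (Groth.Agent.Lib.Helper4.CohSk1.spec_iff hV z₀ z₁).2 ?_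
    rw [hz₀, hz₁]
    exact hle
  have hz01 : z₀.1 = z₁.1 := hne z₀.1 (by rw [hzx]; exact x.2) z₁.1 hz₁M hspec
  have hall : ∀ y : AssSch.Ass M, (q y).app V (b • a • s) = 0 := by
    intro y
    by_contra hy0
    haveI := hG y
    obtain ⟨c, 𝔯, h𝔯p, h𝔯⟩ := exists_smul_ann_prime (A := Γ(X, V)) _ hy0
    obtain ⟨z₂, hz₂⟩ : ∃ z₂ : V, hV.primeIdealOf z₂ = ⟨𝔯, h𝔯p⟩ :=
      ⟨⟨_, Groth.Agent.Lead.SD.fromSpec_mem hV _⟩, Groth.Agent.Lead.SD.primeIdealOf_fromSpec hV _⟩
    have hz₂G : z₂.1 ∈ AssSch.Ass (G y) := by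
      refine (Groth.Agent.Lib.Helper4.CohSk1.ass_iff (G y) hV z₂).2 ?_
      rw [hz₂]
      refine (isAssociatedPrime_iff).2 ⟨h𝔯p, c • (q y).app V (b • a • s), ?_⟩
      ext r
      rw [Submodule.mem_colon_singleton, Submodule.mem_bot]
      exact h𝔯 r
    rw [hA y, Set.mem_singleton_iff] at hz₂G
    have hspec2 : z₁.1 ⤳ z₂.1 := by
      refine (Groth.Agent.Lib.Helper4.CohSk1.spec_iff hV z₂ z₁).2 ?_
      rw [hz₁, hz₂]
      intro r hr
      refine (h𝔯 r).2 ?_
      rw [smul_comm, ← Scheme.Modules.Hom.app_smul, (h𝔮' r).1 hr, map_zero]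
      exact smul_zero (A := Γ(G y, V)) c
    have h21 : z₂.1 = z₁.1 := hne z₂.1 (by rw [hz₂G]; exact y.2) z₁.1 hz₁M hspec2
    have hyx : y = x := Subtype.ext (hz₂G.symm.trans (h21.trans (hz01.symm.trans hzx)))
    subst hyx
    apply hy0
    rw [Scheme.Modules.Hom.app_smul, Scheme.Modules.Hom.app_smul, hqs]
    rw [smul_zero (A := Γ(G y, V)) a]
    exact smul_zero (A := Γ(G y, V)) b
  have h3 : b • a • s = 0 := section_eq_zero_of_joint_mono G q hm V _ hall
  have h4 : (1 : Γ(X, V)) ∈ 𝔮' := (h𝔮' 1).2 (by rw [one_smul]; exact h3)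
  exact h𝔮'p.ne_top ((Ideal.eq_top_iff_one _).2 h4)

end Groth.Agent.Lib.Helper5.PrimDec
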